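import Cfsg.Agent.CosetEnum.HeH.Action
import Cfsg.Agent.CosetEnum.Simple
import Cfsg.Agent.PresentedOut.Criterion
import Cfsg.Agent.PresentedOut.He.Data

/-! Kernel checks for the triple in `Cfsg.Spor.He`. -/

set_option autoImplicit false
set_option maxRecDepth 100000
set_option exponentiation.threshold 200000
set_option Elab.async false

namespace CfsgLib.PresentedOut.He

open CfsgLib.CosetEnum

/-- The invariant relation on pairs of cosets. -/
noncomputable def R (i j : ℕ) : ℕ := rel HeH.tb HeH.parN HeH.parX classes 16 i j

theorem down_ok : allR (fun i => bif Nat.blt i 2058 then down HeH.parN 16 i else true) 12 0 = true := by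
  decide +kernel

theorem cls_ok : allR (clsEntry 2058 HeH.tb HeH.sW classes) 12 0 = true := by decide +kernel

theorem table0 : allR (wordEntry 2058 HeH.tb (W.getD 0 []) t0) 12 0 = true := by decide +kernel

theorem table1 : allR (wordEntry 2058 HeH.tb (W.getD 1 []) t1) 12 0 = true := by decide +kernel

theorem table2 : allR (wordEntry 2058 HeH.tb (W.getD 2 []) t2) 12 0 = true := by decide +kernel

theorem table3 : allR (wordEntry 2058 HeH.tb (W.getD 3 []) t3) 12 0 = true := by decide +kernel

theorem profA0 : allR (profEntry R 2058 (tb 0) 17 0 LA0) 12 0 = true := by decide +kernel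

theorem profA1 : allR (profEntry R 2058 (tb 0) 17 1 LA1) 12 0 = true := by decide +kernel

theorem profA2 : allR (profEntry R 2058 (tb 0) 17 180 LA2) 12 0 = true := by decide +kernel

theorem profA3 : allR (profEntry R 2058 (tb 0) 17 1654 LA3) 12 0 = true := by decide +kernel

/-- The powers of `a`. -/
def KA : List (List ℕ) := (List.range 17).map fun i => List.replicate i 0

theorem searchA : quadSearch R (tb 0) 17 180 1654 0 1 LA2 LA3 LA0 LA1 tb KA = true := by decide +kernel

theorem profB0 : allR (profEntry R 2058 (tb 1) 8 0 LB0) 12 0 = true := by decide +kernel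

theorem profB1 : allR (profEntry R 2058 (tb 1) 8 1 LB1) 12 0 = true := by decide +kernel

theorem profB2 : allR (profEntry R 2058 (tb 1) 8 180 LB2) 12 0 = true := by decide +kernel

theorem profB3 : allR (profEntry R 2058 (tb 1) 8 1654 LB3) 12 0 = true := by decide +kernel

theorem searchB : quadSearch R (tb 1) 8 180 1 0 1654 LB2 LB1 LB0 LB3 tb KW = true := by decide +kernel

end CfsgLib.PresentedOut.He
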