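import Cfsg.Agent.CosetEnum.HeSimple.Final
import Cfsg.Agent.PresentedOut.He.Checks

/-! `Cfsg.Spor.He` has exactly two classes of automorphisms modulo inner ones. -/

set_option autoImplicit false
set_option maxRecDepth 100000
set_option exponentiation.threshold 200000
set_option Elab.async false

namespace CfsgLib.PresentedOut.He

open CfsgLib.CosetEnum

theorem gensW : ∀ v ∈ W, ∀ a ∈ v, a < 7 := by decide +kernel

theorem kwLt : ∀ w ∈ KW, ∀ a ∈ w, a < 4 := by decide +kernel

theorem moveOK : ∀ k < 17, k = 0 ∨ ∃ j < 17, k * 2 ^ j % 17 ∈ [1, 3] := by decide +kernel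

theorem gwsLt : ∀ i < 7, ∀ a ∈ gws.getD i [], a < 3 := by decide +kernel

theorem gwsOK : ∀ i < 7, sameTwo HeH.tb tb [0, 1, 180, 1654] [i] (gws.getD i []) = true := by decide +kernel

theorem relsLt : ∀ v ∈ rels, ∀ a ∈ v, a < 3 := by decide +kernel

theorem relsOK : ∀ v ∈ rels, sameOn tb [0, 1, 180, 1654] v [] = true := by decide +kernel

theorem w0Mem : [1] ∈ KW := by decide +kernel

theorem imageOK : ∀ k ∈ [1, 3], ∀ w ∈ KW, okImage tb [0, 1, 180, 1654] rels 3 [1] k w = true := by
  decide +kernel

theorem piWords : ∀ v ∈ CfsgLib.CosetEnum.He.words,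
    sameOn tb [0, 1, 180, 1654] (subst 3 [1] (v.flatMap fun i => gws.getD i [])) [] = true := by
  decide +kernel

theorem piTriple : ∀ i < 3, sameOn tb [0, 1, 180, 1654]
    (subst 3 [1] ((W.getD i []).flatMap fun i => gws.getD i [])) (img3 3 [1] i) = true := by
  decide +kernel

theorem sepOK : ∀ w ∈ KW, sepWord tb [0, 1, 180, 1654] 3 [1] w = true := by decide +kernel

theorem card_out_He : Nat.card (Cfsg.Out Cfsg.Spor.He) = 2 := by
  haveI hfin : Finite CfsgLib.CosetEnum.He.setup.Grp := CfsgLib.CosetEnum.He.finite_grp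
  haveI : IsSimpleGroup CfsgLib.CosetEnum.He.setup.Grp := CfsgLib.CosetEnum.He.isSimpleGroup_He
  obtain ⟨φ, e, hφ, he, he0, hinj, hcard⟩ := CfsgLib.CosetEnum.He.order_and_action
  have hfix : Nat.card (fixK φ [1654, 180, 1, 0]) ≤ 1 := by
    have h1 := card_range_ge φ _ (HeH.level0 φ hφ _ (HeH.level1 φ hφ _ (HeH.level2 φ hφ _
      (HeH.level3 φ hφ _ (le_refl (Nat.card (fixK φ [1654, 180, 1, 0])))))))
    have h2 : Nat.card φ.range ≤ 4030387200 :=
      hcard ▸ Nat.card_le_card_of_surjective _ φ.rangeRestrict_surjective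
    omega
  have base : ∀ l : List ℕ, (∀ i ∈ [1654, 180, 1, 0], i ∈ l) → IsBase φ l := fun l hl g h hgh =>
    isBase_of_card hinj hfix g h fun i hi => hgh i (hl _ hi)
  have hS : HasTables φ CfsgLib.CosetEnum.He.setup.g CfsgLib.CosetEnum.He.setup.k HeH.tb := by
    intro k hk i
    have h := hφ [k] (by simpa using hk) i
    rw [show prodw CfsgLib.CosetEnum.He.setup.g [k] = CfsgLib.CosetEnum.He.setup.g k by
      simp [prodw]] at h
    exact h
  let x : ℕ → CfsgLib.CosetEnum.He.setup.Grp := fun i => prodw CfsgLib.CosetEnum.He.setup.g (W.getD i [])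
  have htab : ∀ (w : List ℕ) (A : ℕ), (∀ a ∈ w, a < 7) →
      allR (wordEntry 2058 HeH.tb w A) 12 0 = true →
      ∀ i : Fin HeH.enum.n, (img φ (prodw CfsgLib.CosetEnum.He.setup.g w) i).val = ext A i := by
    intro w A hw h i
    have hi : i.val < 2058 := i.isLt
    have h1 := allR_spec 12 0 h i (Nat.zero_le _) (by norm_num; omega)
    unfold wordEntry at h1
    rw [show Nat.blt i.val 2058 = true by simpa using hi, cond_true] at h1
    exact (hφ w hw i).trans (Nat.eq_of_beq_eq_true h1)
  have hx : HasTables φ x 4 tb := by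
    intro k hk i
    interval_cases k
    · exact htab _ t0 (by decide +kernel) table0 i
    · exact htab _ t1 (by decide +kernel) table1 i
    · exact htab _ t2 (by decide +kernel) table2 i
    · exact htab _ t3 (by decide +kernel) table3 i
  have hR : IsInvariant φ R :=
    isInvariant_rel (E := HeH.enum) (d := 12) (show 2058 ≤ 2 ^ 12 by norm_num) (show 0 < 2058 by norm_num)
      hφ e he (by rw [he0]; rfl) HeH.treeValid classes 16 down_ok cls_ok
  have hB : IsBase φ [0, 1, 180, 1654] := base _ (by decide)
  have hbs : ∀ i ∈ [0, 1, 180, 1654], i < 2058 := by decide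
  have eqw : ∀ v w : List ℕ, (∀ a ∈ v, a < 4) → (∀ a ∈ w, a < 4) →
      sameOn tb [0, 1, 180, 1654] v w = true → prodw x v = prodw x w :=
    fun v w hv hw h => eq_of_sameOn hB hx hv hw h
  have hcA : ∀ g, Commute g (x 0) → ∃ i < 17, g = x 0 ^ i := by
    intro g hg
    obtain ⟨w, hw, rfl⟩ := exists_eq_of_commute (d := 12) (show 2058 ≤ 2 ^ 12 by norm_num) hR
      (base [180, 1654, 0, 1] (by decide)) (show 180 < 2058 by norm_num) (show 1654 < 2058 by norm_num)
      (show 0 < 2058 by norm_num) (show 1 < 2058 by norm_num) hx (c := 0) (by norm_num)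
      (KW := KA) (by decide +kernel) profA2 profA3 profA0 profA1 searchA hg
    obtain ⟨i, hi, rfl⟩ := List.mem_map.mp hw
    exact ⟨i, List.mem_range.mp hi, prodw_const x i 0⟩
  have hcB : ∀ g, Commute g (x 1) → ∃ w ∈ KW, g = prodw x w := fun g hg =>
    exists_eq_of_commute (d := 12) (show 2058 ≤ 2 ^ 12 by norm_num) hR
      (base [180, 1, 0, 1654] (by decide)) (show 180 < 2058 by norm_num) (show 1 < 2058 by norm_num)
      (show 0 < 2058 by norm_num) (show 1654 < 2058 by norm_num) hx (c := 1) (by norm_num)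
      (KW := KW) (by decide +kernel) profB2 profB1 profB0 profB3 searchB hg
  let Rg : Rigid x KW :=
    { p := 17
      r := 2
      r' := 9
      s := 7
      hp := by norm_num
      hr := rfl
      pow_a := by
        have := eqw (List.replicate 17 0) [] (by decide) (by decide) (by decide +kernel)
        rwa [prodw_const, prodw_nil] at this
      a_ne := fun h => by
        have h' := sameOn_of_eq hbs hx (v := [0]) (w := []) (by decide) (by decide) (by simpa [prodw] using h)
        exact absurd h' (by decide +kernel)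
      a_b := by
        have := eqw [0, 1] (1 :: List.replicate 2 0) (by decide) (by decide) (by decide +kernel)
        rwa [prodw_cons, prodw_cons, prodw_nil, mul_one, prodw_cons, prodw_const] at this
      b_c := by
        have := eqw [1, 2] (2 :: List.replicate 7 1) (by decide) (by decide) (by decide +kernel)
        rwa [prodw_cons, prodw_cons, prodw_nil, mul_one, prodw_cons, prodw_const] at this
      sylow := by rw [hcard]; decide +kernel
      centA := hcA
      centB := hcB
      shift := by decide +kernel }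
  show Nat.card (Cfsg.Out CfsgLib.CosetEnum.He.setup.Grp) = 2
  exact card_out_eq_two (S := CfsgLib.CosetEnum.He.setup) (φ := φ) (tbS := HeH.tb) (tb := tb)
    (bs := [0, 1, 180, 1654]) hB hbs hS (W := W) gensW (m := 4) (by norm_num) (x := x)
    (fun _ => rfl) hx (KW := KW) kwLt Rg [1, 3] moveOK
    (fun i => gws.getD i []) gwsLt gwsOK rels relsLt relsOK 3 [1] w0Mem ⟨by norm_num [Rg], by norm_num⟩
    imageOK piWords piTriple sepOK

end CfsgLib.PresentedOut.He
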